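import Groth.Agent.Lib.PicGrp20.Ops
import Mathlib.CategoryTheory.Monoidal.Cartesian.Grp
import Mathlib.CategoryTheory.Monoidal.Cartesian.Over

/-!
# The group law of a relative Picard scheme
-/

set_option autoImplicit false
set_option linter.style.haveILetI false
set_option backward.isDefEq.respectTransparency false
set_option backward.isDefEq.respectTransparency.types false

universe u

open CategoryTheory CategoryTheory.Limits AlgebraicGeometry Opposite MonoidalCategory CartesianMonoidalCategory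
open scoped MonObj

noncomputable section

namespace Groth.Agent.PicGrp20

attribute [local instance] M2.law

variable {X S : Scheme.{u}} {f : X ⟶ S} {P : Over S}
  {φ : ∀ T : Over S, PicF.Cl (PicF.XT f T) → (T ⟶ P)} (hP : AbDual.IsRelPicK Scheme.fppfPrecoverage f P φ)

theorem nat_mul : IsNat f (fun _ (x : Fin 2 → Pc f _) => x 0 * x 1) := fun _ _ _ _ => map_mul _ _ _

theorem nat_inv : IsNat f (fun _ (x : Fin 1 → Pc f _) => (x 0)⁻¹) := fun _ _ _ _ => map_inv _ _

/-- The product of two points. -/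
def pmul {T : Over S} (a b : T ⟶ P) : T ⟶ P := pop hP nat_mul ![a, b]

theorem pmul_spec {T T' : Over S} {a b : T ⟶ P} {g : T' ⟶ T} {x y : Pc f T'} (hx : ev hP x = g ≫ a)
    (hy : ev hP y = g ≫ b) : g ≫ pmul hP a b = ev hP (x * y) :=
  (pop_spec hP nat_mul ![a, b] g ![x, y] fun i => by fin_cases i <;> assumption).symm

theorem comp_pmul {T T' : Over S} (g : T' ⟶ T) (a b : T ⟶ P) : g ≫ pmul hP a b = pmul hP (g ≫ a) (g ≫ b) := by
  rw [pmul, pop_comp]
  congr 1
  funext i
  fin_cases i <;> rfl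

/-- The inverse of a point. -/
def pinv {T : Over S} (a : T ⟶ P) : T ⟶ P := pop hP nat_inv ![a]

theorem pinv_spec {T T' : Over S} {a : T ⟶ P} {g : T' ⟶ T} {x : Pc f T'} (hx : ev hP x = g ≫ a) :
    g ≫ pinv hP a = ev hP x⁻¹ :=
  (pop_spec hP nat_inv ![a] g ![x] fun i => by fin_cases i; exact hx).symm

theorem comp_one' {T T' : Over S} (g : T' ⟶ T) : g ≫ ev hP (1 : Pc f T) = ev hP (1 : Pc f T') := by
  rw [← ev_pb hP, map_one]

/-- The group of points. -/
@[implicit_reducible]
def ptsGroup (T : Over S) : Group (T ⟶ P) where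
  mul := pmul hP
  one := ev hP (1 : Pc f T)
  inv := pinv hP
  mul_assoc a b c := left_ext (liftSieve_mem hP ![a, b, c]) fun U v hv => by
    obtain ⟨x, hx'⟩ := hv 0
    have hx : ev hP x = AbDual.ovrHom T v ≫ a := hx'
    obtain ⟨y, hy'⟩ := hv 1
    have hy : ev hP y = AbDual.ovrHom T v ≫ b := hy'
    obtain ⟨z, hz'⟩ := hv 2
    have hz : ev hP z = AbDual.ovrHom T v ≫ c := hz'
    show _ ≫ pmul hP (pmul hP a b) c = _ ≫ pmul hP a (pmul hP b c)
    rw [pmul_spec hP (pmul_spec hP hx hy).symm hz, pmul_spec hP hx (pmul_spec hP hy hz).symm, mul_assoc]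
  one_mul a := left_ext (liftSieve_mem hP ![a]) fun U v hv => by
    obtain ⟨x, hx'⟩ := hv 0
    have hx : ev hP x = AbDual.ovrHom T v ≫ a := hx'
    show _ ≫ pmul hP (ev hP 1) a = _
    rw [pmul_spec hP (comp_one' hP _).symm hx, one_mul, hx]
  mul_one a := left_ext (liftSieve_mem hP ![a]) fun U v hv => by
    obtain ⟨x, hx'⟩ := hv 0
    have hx : ev hP x = AbDual.ovrHom T v ≫ a := hx'
    show _ ≫ pmul hP a (ev hP 1) = _
    rw [pmul_spec hP hx (comp_one' hP _).symm, mul_one, hx]
  inv_mul_cancel a := left_ext (liftSieve_mem hP ![a]) fun U v hv => by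
    obtain ⟨x, hx'⟩ := hv 0
    have hx : ev hP x = AbDual.ovrHom T v ≫ a := hx'
    show _ ≫ pmul hP (pinv hP a) a = _ ≫ ev hP 1
    rw [pmul_spec hP (pinv_spec hP hx).symm hx, inv_mul_cancel, comp_one']

/-- Restriction of points. -/
def ptsMap {T T' : Over S} (g : T' ⟶ T) :
    @MonoidHom (T ⟶ P) (T' ⟶ P) (ptsGroup hP T).toMulOneClass.toMulOne (ptsGroup hP T').toMulOneClass.toMulOne :=
  letI := ptsGroup hP T
  letI := ptsGroup hP T'
  { toFun := fun a => g ≫ a
    map_one' := comp_one' hP g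
    map_mul' := fun a b => comp_pmul hP g a b }

/-- The functor of points as a presheaf of groups. -/
def ptsFunctor : (Over S)ᵒᵖ ⥤ GrpCat.{u} where
  obj T := @GrpCat.of (T.unop ⟶ P) (ptsGroup hP T.unop)
  map {T T'} g := @GrpCat.ofHom _ _ (ptsGroup hP T.unop) (ptsGroup hP T'.unop) (ptsMap hP g.unop)
  map_id T := by
    apply GrpCat.ext
    exact fun a => Category.id_comp a
  map_comp g h := by
    apply GrpCat.ext
    exact fun a => Category.assoc h.unop g.unop a

/-- The tautological representation. -/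
def ptsRep : (ptsFunctor hP ⋙ forget _).RepresentableBy P where
  homEquiv {T} := Equiv.refl (T ⟶ P)
  homEquiv_comp _ _ := rfl

/-- The group law of a relative Picard scheme. -/
@[implicit_reducible]
def grpObj : GrpObj P := GrpObj.ofRepresentableBy P (ptsFunctor hP) (ptsRep hP)

theorem eta_eq : letI := grpObj hP; η[P] = ev hP (1 : Pc f (𝟙_ (Over S))) := rfl

theorem one_eq (T : Over S) : letI := grpObj hP; (1 : T ⟶ P) = ev hP (1 : Pc f T) := by
  letI := grpObj hP
  exact comp_one' hP (toUnit T)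

theorem mul_eq {T : Over S} (x y : Pc f T) : letI := grpObj hP; ev hP x * ev hP y = ev hP (x * y) := by
  letI := grpObj hP
  rw [Hom.mul_def]
  show lift (ev hP x) (ev hP y) ≫ pmul hP (fst P P) (snd P P) = _
  rw [comp_pmul, lift_fst, lift_snd]
  exact (congrArg (pop hP nat_mul) (funext fun i => by fin_cases i <;> rfl)).trans (pop_ev hP nat_mul ![x, y])

theorem isCommMonObj : letI := grpObj hP; IsCommMonObj P := by
  letI := grpObj hP
  constructor
  show (β_ P P).hom ≫ pmul hP (fst P P) (snd P P) = pmul hP (fst P P) (snd P P)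
  rw [comp_pmul, braiding_hom_fst, braiding_hom_snd]
  refine left_ext (liftSieve_mem hP ![fst P P, snd P P]) fun U v hv => ?_
  obtain ⟨x, hx'⟩ := hv 0
  have hx : ev hP x = AbDual.ovrHom (P ⊗ P) v ≫ fst P P := hx'
  obtain ⟨y, hy'⟩ := hv 1
  have hy : ev hP y = AbDual.ovrHom (P ⊗ P) v ≫ snd P P := hy'
  rw [pmul_spec hP hy hx, pmul_spec hP hx hy, mul_comm]

/-- The unit point is the value of the trivial class. -/
theorem eta_left_closedPoint {k : Type u} [Field k] {X : Scheme.{u}} {f : X ⟶ Spec (CommRingCat.of k)}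
    {P : Over (Spec (CommRingCat.of k))} {φ : ∀ T : Over (Spec (CommRingCat.of k)), PicF.Cl (PicF.XT f T) → (T ⟶ P)}
    (hP : AbDual.IsRelPicK Scheme.fppfPrecoverage f P φ) : letI := grpObj hP
    η[P].left (IsLocalRing.closedPoint k) =
      (φ (Over.mk (𝟙 (Spec (CommRingCat.of k))))
        (PicF.cl (Coh.structureModule (PicF.XT f (Over.mk (𝟙 (Spec (CommRingCat.of k)))))))).left
          (IsLocalRing.closedPoint k) := by
  letI := grpObj hP
  rw [← PicGrp.one_val, eta_eq]
  rfl

end Groth.Agent.PicGrp20
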