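import Groth.Prelude.Def_PicRel2
import Groth.Prelude.Def_AbDual
import Groth.Agent.Lib.PicDesc21.Fun

/-!
# Étale-sheafified representations are fppf-sheafified representations
-/

set_option autoImplicit false
set_option linter.style.haveILetI false
set_option backward.isDefEq.respectTransparency false

universe u

open CategoryTheory CategoryTheory.Limits AlgebraicGeometry

noncomputable section

namespace Groth.Agent.PicGrp20

/-- An étale-sheafified representation is an fppf-sheafified one. -/
theorem isRelPicK_of_isRelPic {X S : Scheme.{u}} {f : X ⟶ S} {P : Over S}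
    {φ : ∀ T : Over S, PicF.Cl (PicF.XT f T) → (T ⟶ P)} (hP : PicRel.IsRelPic f P φ) :
    AbDual.IsRelPicK Scheme.fppfPrecoverage f P φ := by
  have key : ∀ {T : Scheme.{u}} {ι : Type u} (U : ι → T.Etale), EtCoh.Covers U →
      Presieve.ofArrows (fun i => (U i).left) (fun i => (U i).hom) ∈ Scheme.fppfPrecoverage T := fun U hU =>
    PicDesc21.mem_fppf_iff.2 ⟨fun x => by obtain ⟨i, y, hy⟩ := hU x; exact ⟨i, y, hy⟩, fun i => by
      haveI : Etale (U i).hom := (U i).prop
      exact ⟨inferInstance, inferInstance⟩⟩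
  refine ⟨hP.natural, fun T g => ?_, fun T c c' hc hc' h => ?_⟩
  · obtain ⟨ι, U, hU, hc⟩ := hP.locallySurjective T g
    exact ⟨_, key U hU, fun _ _ ⟨i⟩ => hc i⟩
  · obtain ⟨ι, U, hU, hcc⟩ := hP.locallyInjective T c c' hc hc' h
    exact ⟨_, key U hU, fun _ _ ⟨i⟩ => hcc i⟩

end Groth.Agent.PicGrp20
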