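import Groth.Agent.Lib.HilbBC25.Basic
import Groth.Agent.Lib.NPow20.Pic
import Groth.Prelude.Def_AbDual
import Mathlib.AlgebraicGeometry.Sites.Fpqc

/-!
# Operations on classes descend to a representing scheme of the relative Picard functor
-/

set_option autoImplicit false
set_option linter.style.haveILetI false
set_option backward.isDefEq.respectTransparency false
set_option backward.isDefEq.respectTransparency.types false

universe u

open CategoryTheory CategoryTheory.Limits AlgebraicGeometry Opposite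

noncomputable section

namespace Groth.Agent.PicGrp20

attribute [local instance] M2.law

variable {X S : Scheme.{u}} {f : X ⟶ S} {P : Over S}

/-- Invertible classes on a test object. -/
abbrev Pc (f : X ⟶ S) (T : Over S) : Type (u + 1) := PicLoc.PicSet (PicF.XT f T)

/-- Pullback along a morphism of test objects. -/
abbrev pb (f : X ⟶ S) {T T' : Over S} (g : T' ⟶ T) : Pc f T →* Pc f T' := NPow20.pl (PicF.XTmap f g)

theorem pb_comp {T T' T'' : Over S} (h : T'' ⟶ T') (g : T' ⟶ T) (c : Pc f T) :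
    pb f (h ≫ g) c = pb f h (pb f g c) := by
  show NPow20.pl _ c = _
  rw [HilbBC25.XTmap_comp, NPow20.pl_comp]

theorem pb_id {T : Over S} (c : Pc f T) : pb f (𝟙 T) c = c := by
  show NPow20.pl _ c = _
  rw [HilbBC25.XTmap_id, NPow20.pl_id]

variable {φ : ∀ T : Over S, PicF.Cl (PicF.XT f T) → (T ⟶ P)}
  (hP : AbDual.IsRelPicK Scheme.fppfPrecoverage f P φ)

/-- The value of a class. -/
abbrev ev (_hP : AbDual.IsRelPicK Scheme.fppfPrecoverage f P φ) {T : Over S} (c : Pc f T) : T ⟶ P := φ T c.1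

include hP in
theorem ev_pb {T T' : Over S} (g : T' ⟶ T) (c : Pc f T) : ev hP (pb f g c) = g ≫ ev hP c :=
  hP.natural T T' g c.1 c.2

theorem ovrHom_homMk {T : Over S} {U V : Scheme.{u}} (v : U ⟶ T.left) (j : V ⟶ U) :
    (Over.homMk j (Category.assoc _ _ _).symm : AbDual.ovr T (j ≫ v) ⟶ AbDual.ovr T v) ≫ AbDual.ovrHom T v =
      AbDual.ovrHom T (j ≫ v) :=
  Over.OverMorphism.ext rfl

/-- The sieve of `u` along which all `a i` come from classes. -/
def liftSieve {m : ℕ} {T : Over S} (a : Fin m → (T ⟶ P)) : Sieve T.left where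
  arrows U v := ∀ i, ∃ x : Pc f (AbDual.ovr T v), ev hP x = AbDual.ovrHom T v ≫ a i
  downward_closed {U V v} hv j i := by
    obtain ⟨x, hx⟩ := hv i
    refine ⟨pb f (Over.homMk j (Category.assoc _ _ _).symm : AbDual.ovr T (j ≫ v) ⟶ AbDual.ovr T v) x, ?_⟩
    rw [ev_pb hP, hx, ← Category.assoc, ovrHom_homMk]

theorem liftSieve_mem {m : ℕ} {T : Over S} (a : Fin m → (T ⟶ P)) :
    liftSieve hP a ∈ Scheme.fppfTopology T.left := by
  induction m with
  | zero => exact Scheme.fppfTopology.superset_covering (fun U v _ i => i.elim0) (Scheme.fppfTopology.top_mem _)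
  | succ m ih =>
    obtain ⟨R, hR, h⟩ := hP.locallySurjective T (a 0)
    refine Scheme.fppfTopology.superset_covering ?_
      (Scheme.fppfTopology.intersection_covering (Precoverage.generate_mem_toGrothendieck hR) (ih (fun i => a i.succ)))
    rintro U v ⟨⟨W, j, w, hw, rfl⟩, h2⟩ i
    refine Fin.cases ?_ (fun i => h2 i) i
    obtain ⟨c, hc1, hc2⟩ := h w hw
    refine ⟨pb f (Over.homMk j (Category.assoc _ _ _).symm : AbDual.ovr T (j ≫ w) ⟶ AbDual.ovr T w) ⟨c, hc1⟩, ?_⟩
    rw [ev_pb hP, show ev hP ⟨c, hc1⟩ = _ from hc2, ← Category.assoc, ovrHom_homMk]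

/-- The sieve of `u` along which two families of classes agree. -/
def eqSieve {m : ℕ} {T : Over S} (x y : Fin m → Pc f T) : Sieve T.left where
  arrows U v := ∀ i, pb f (AbDual.ovrHom T v) (x i) = pb f (AbDual.ovrHom T v) (y i)
  downward_closed {U V v} hv j i := by
    rw [← ovrHom_homMk v j, pb_comp, pb_comp, hv i]

include hP in
theorem eqSieve_mem {m : ℕ} {T : Over S} (x y : Fin m → Pc f T) (h : ∀ i, ev hP (x i) = ev hP (y i)) :
    eqSieve x y ∈ Scheme.fppfTopology T.left := by
  induction m with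
  | zero => exact Scheme.fppfTopology.superset_covering (fun U v _ i => i.elim0) (Scheme.fppfTopology.top_mem _)
  | succ m ih =>
    obtain ⟨R, hR, hxy⟩ := hP.locallyInjective T (x 0).1 (y 0).1 (x 0).2 (y 0).2 (h 0)
    refine Scheme.fppfTopology.superset_covering ?_
      (Scheme.fppfTopology.intersection_covering (Precoverage.generate_mem_toGrothendieck hR)
        (ih (fun i => x i.succ) (fun i => y i.succ) fun i => h i.succ))
    rintro U v ⟨⟨W, j, w, hw, rfl⟩, h2⟩ i
    refine Fin.cases ?_ (fun i => h2 i) i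
    have he : pb f (AbDual.ovrHom T w) (x 0) = pb f (AbDual.ovrHom T w) (y 0) := Subtype.ext (hxy w hw)
    rw [← ovrHom_homMk w j, pb_comp, pb_comp, he]

theorem left_ext {T A : Over S} {R : Sieve T.left} (hR : R ∈ Scheme.fppfTopology T.left) {a b : T ⟶ A}
    (h : ∀ ⦃U : Scheme.{u}⦄ (v : U ⟶ T.left), R v → AbDual.ovrHom T v ≫ a = AbDual.ovrHom T v ≫ b) : a = b :=
  Over.OverMorphism.ext (((GrothendieckTopology.Subcanonical.isSheaf_of_isRepresentable (J := Scheme.fppfTopology)
    (yoneda.obj A.left)) R hR).isSeparatedFor.ext fun _ v hv => congrArg CommaMorphism.left (h v hv))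

/-- A natural operation on classes. -/
def IsNat (f : X ⟶ S) {m : ℕ} (o : ∀ T : Over S, (Fin m → Pc f T) → Pc f T) : Prop :=
  ∀ (T T' : Over S) (g : T' ⟶ T) (x : Fin m → Pc f T), pb f g (o T x) = o T' (fun i => pb f g (x i))

variable {m : ℕ} {o : ∀ T : Over S, (Fin m → Pc f T) → Pc f T}

include hP in
theorem ev_op_congr (ho : IsNat f o) {T : Over S} (x y : Fin m → Pc f T) (h : ∀ i, ev hP (x i) = ev hP (y i)) :
    ev hP (o T x) = ev hP (o T y) :=
  left_ext (eqSieve_mem hP x y h) fun U v hv => by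
    rw [← ev_pb hP, ← ev_pb hP, ho, ho, funext hv]

include hP in
theorem exists_op (ho : IsNat f o) {T : Over S} (a : Fin m → (T ⟶ P)) :
    ∃ h : T ⟶ P, ∀ (T' : Over S) (g : T' ⟶ T) (x : Fin m → Pc f T'),
      (∀ i, ev hP (x i) = g ≫ a i) → ev hP (o T' x) = g ≫ h := by
  let fam : Presieve.FamilyOfElements (yoneda.obj P.left) (liftSieve hP a).arrows := fun U v hv =>
    (ev hP (o (AbDual.ovr T v) fun i => (hv i).choose)).left
  -- the value on any lift
  have key : ∀ {U : Scheme.{u}} (v : U ⟶ T.left) (hv : liftSieve hP a v) (T' : Over S)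
      (g : T' ⟶ AbDual.ovr T v) (x : Fin m → Pc f T'),
      (∀ i, ev hP (x i) = g ≫ AbDual.ovrHom T v ≫ a i) → g.left ≫ fam v hv = (ev hP (o T' x)).left := by
    intro U v hv T' g x hx
    rw [← ev_op_congr hP ho (fun i => pb f g (hv i).choose) x fun i => by
      rw [ev_pb hP, (hv i).choose_spec, hx i], ← ho, ev_pb hP]
    rfl
  have hcomp : fam.Compatible := by
    intro U₁ U₂ Z g₁ g₂ v₁ v₂ h₁ h₂ e
    let j₁ : AbDual.ovr T (g₁ ≫ v₁) ⟶ AbDual.ovr T v₁ := Over.homMk g₁ (Category.assoc _ _ _).symm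
    let j₂ : AbDual.ovr T (g₁ ≫ v₁) ⟶ AbDual.ovr T v₂ :=
      Over.homMk g₂ ((Category.assoc _ _ _).symm.trans (congrArg (· ≫ T.hom) e.symm))
    show g₁ ≫ fam v₁ h₁ = g₂ ≫ fam v₂ h₂
    have hx : ∀ i, ev hP (pb f j₁ (h₁ i).choose) = j₂ ≫ AbDual.ovrHom T v₂ ≫ a i := fun i => by
      rw [ev_pb hP, (h₁ i).choose_spec, ← Category.assoc, ← Category.assoc]
      exact congrArg (· ≫ a i) (Over.OverMorphism.ext e)
    refine Eq.trans ?_ (key v₂ h₂ _ j₂ _ hx).symm
    exact key v₁ h₁ _ j₁ _ fun i => by rw [ev_pb hP, (h₁ i).choose_spec]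
  have hsh := (GrothendieckTopology.Subcanonical.isSheaf_of_isRepresentable (J := Scheme.fppfTopology)
    (yoneda.obj P.left)) _ (liftSieve_mem hP a)
  let hl : T.left ⟶ P.left := hsh.amalgamate fam hcomp
  have hval : ∀ {U : Scheme.{u}} (v : U ⟶ T.left) (hv : liftSieve hP a v), v ≫ hl = fam v hv := fun v hv =>
    hsh.valid_glue hcomp v hv
  have hw : hl ≫ P.hom = T.hom := by
    refine ((GrothendieckTopology.Subcanonical.isSheaf_of_isRepresentable (J := Scheme.fppfTopology)
      (yoneda.obj S)) _ (liftSieve_mem hP a)).isSeparatedFor.ext fun U v hv => ?_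
    show v ≫ hl ≫ P.hom = v ≫ T.hom
    rw [← Category.assoc, hval v hv]
    exact Over.w (ev hP (o (AbDual.ovr T v) fun i => (hv i).choose))
  refine ⟨Over.homMk hl hw, fun T' g x hx => Over.OverMorphism.ext ?_⟩
  have hmem : liftSieve hP a g.left := fun i => by
    let e : AbDual.ovr T g.left ⟶ T' := Over.homMk (𝟙 T'.left) ((Category.id_comp _).trans (Over.w g).symm)
    refine ⟨pb f e (x i), ?_⟩
    rw [ev_pb hP, hx i, ← Category.assoc]
    exact congrArg (· ≫ a i) (Over.OverMorphism.ext (Category.id_comp _))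
  let g' : T' ⟶ AbDual.ovr T g.left := Over.homMk (𝟙 T'.left) ((Category.id_comp _).trans (Over.w g))
  have hg' : g' ≫ AbDual.ovrHom T g.left = g := Over.OverMorphism.ext (Category.id_comp _)
  rw [← key g.left hmem T' g' x fun i => by rw [← Category.assoc, hg', hx i], ← hval g.left hmem]
  exact Category.id_comp _

/-- The operation on points. -/
def pop (ho : IsNat f o) {T : Over S} (a : Fin m → (T ⟶ P)) : T ⟶ P := (exists_op hP ho a).choose

theorem pop_spec (ho : IsNat f o) {T : Over S} (a : Fin m → (T ⟶ P)) {T' : Over S} (g : T' ⟶ T)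
    (x : Fin m → Pc f T') (h : ∀ i, ev hP (x i) = g ≫ a i) : ev hP (o T' x) = g ≫ pop hP ho a :=
  (exists_op hP ho a).choose_spec T' g x h

theorem pop_ev (ho : IsNat f o) {T : Over S} (x : Fin m → Pc f T) :
    pop hP ho (fun i => ev hP (x i)) = ev hP (o T x) :=
  ((pop_spec hP ho _ (𝟙 T) x fun i => (Category.id_comp _).symm).trans (Category.id_comp _)).symm

theorem pop_comp (ho : IsNat f o) {T T' : Over S} (g : T' ⟶ T) (a : Fin m → (T ⟶ P)) :
    g ≫ pop hP ho a = pop hP ho (fun i => g ≫ a i) :=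
  left_ext (liftSieve_mem hP fun i => g ≫ a i) fun U v hv => by
    rw [← Category.assoc, ← pop_spec hP ho a _ _ fun i => (hv i).choose_spec.trans (Category.assoc _ _ _).symm,
      ← pop_spec hP ho _ _ _ fun i => (hv i).choose_spec]

end Groth.Agent.PicGrp20
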